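import Cfsg.Agent.SLBlocks.Borel
import Cfsg.Agent.GLFlag.Cells

/-!
# Outside the big cell some regular linear character of the unitriangular group is not matched
-/

set_option autoImplicit false

namespace CfsgLib.SLBlocks

open Matrix CfsgLib.SLn.Unip CfsgLib.GLFlag

variable {F : Type*} [Field F] [Finite F] {n : ℕ}

local notation "SL" => Matrix.SpecialLinearGroup (Fin n) F

variable (F n) in
/-- Sum of the entries just above the diagonal, as a homomorphism. -/
def supSum : upperUni F n →* Multiplicative F where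
  toFun u := Multiplicative.ofAdd (∑ i : Fin n, ∑ j : Fin n, if (j : ℕ) = i + 1 then u.1.1 i j else 0)
  map_one' := by
    rw [ofAdd_eq_one]
    refine Finset.sum_eq_zero fun i _ => Finset.sum_eq_zero fun j _ => ?_
    split_ifs with h
    · exact Matrix.one_apply_ne fun e => by rw [e] at h; omega
    · rfl
  map_mul' a b := by
    rw [← ofAdd_add, ← Finset.sum_add_distrib]
    refine congrArg Multiplicative.ofAdd (Finset.sum_congr rfl fun i _ => ?_)
    rw [← Finset.sum_add_distrib]
    refine Finset.sum_congr rfl fun j _ => ?_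
    split_ifs with h
    · show (a.1.1 * b.1.1) i j = a.1.1 i j + b.1.1 i j
      have hij : i ≠ j := fun e => by rw [e] at h; omega
      rw [Matrix.mul_apply, Finset.sum_eq_add i j hij]
      · rw [a.2.2 i, b.2.2 j, one_mul, mul_one, add_comm]
      · intro k _ hk
        rcases lt_or_gt_of_ne hk.1 with h' | h'
        · rw [a.2.1 i k h', zero_mul]
        · rw [b.2.1 k j (lt_of_le_of_ne (by rw [Fin.le_def]; have : (i : ℕ) < k := h'; omega) (Ne.symm hk.2)),
            mul_zero]
      · simp
      · simp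
    · rw [add_zero]

theorem exists_nontrivial_hom : ∃ θ : Multiplicative F →* ℂˣ, θ (Multiplicative.ofAdd 1) ≠ 1 :=
  CommGroup.exists_apply_ne_one_of_hasEnoughRootsOfUnity (Multiplicative F) ℂ
    (fun h => one_ne_zero (ofAdd_eq_one.1 h))

variable (F n) in
/-- A regular linear character of the unitriangular group. -/
noncomputable def psi : upperUni F n →* ℂ :=
  (Units.coeHom ℂ).comp ((exists_nontrivial_hom (F := F)).choose.comp (supSum F n))

theorem psi_one_ne {u : upperUni F n}
    (h : (∑ i : Fin n, ∑ j : Fin n, if (j : ℕ) = i + 1 then u.1.1 i j else 0) = 1) : psi F n u ≠ 1 := by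
  intro h1
  refine (exists_nontrivial_hom (F := F)).choose_spec (Units.ext ?_)
  have : supSum F n u = Multiplicative.ofAdd 1 := congrArg Multiplicative.ofAdd h
  have h2 : (((exists_nontrivial_hom (F := F)).choose (supSum F n u) : ℂˣ) : ℂ) = 1 := h1
  rw [this] at h2
  simpa using h2

/-- Upper triangular invertible matrices. -/
def upperGL (F : Type*) [Field F] (n : ℕ) : Subgroup (GL (Fin n) F) where
  carrier := {g | (g : Matrix (Fin n) (Fin n) F).BlockTriangular id}
  mul_mem' := fun {a b} ha hb => Matrix.BlockTriangular.mul ha hb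
  one_mem' := Matrix.blockTriangular_one
  inv_mem' := fun {a} ha => by
    have : Invertible (a : Matrix (Fin n) (Fin n) F) := a.invertible
    show ((a⁻¹ : GL (Fin n) F) : Matrix (Fin n) (Fin n) F).BlockTriangular id
    rw [Matrix.coe_units_inv]
    exact Matrix.blockTriangular_inv_of_blockTriangular ha

theorem diag_mul {A B : GL (Fin n) F} (hA : A ∈ upperGL F n) (hB : B ∈ upperGL F n) (i : Fin n) :
    ((A * B : GL (Fin n) F) : Matrix (Fin n) (Fin n) F) i i = A.1 i i * B.1 i i :=
  (upper_mul (fun _ _ h => hA h) (fun _ _ h => hB h)).2 i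

theorem diag_ne {A : GL (Fin n) F} (hA : A ∈ upperGL F n) (i : Fin n) : A.1 i i ≠ 0 := fun h => by
  have := diag_mul hA (inv_mem hA) i
  rw [mul_inv_cancel, h, zero_mul] at this
  simp at this

theorem mul_perm_apply (R : Matrix (Fin n) (Fin n) F) (w : Equiv.Perm (Fin n)) (a b : Fin n) :
    (R * (permGL w : GL (Fin n) F).1) a b = R a (w b) := by
  have h : ((permGL w : GL (Fin n) F).1 *ᵥ Pi.single b 1) = Pi.single (w b) 1 := by
    rw [permGL_mulVec]
    funext r
    simp only [Function.comp, Pi.single_apply, Equiv.symm_apply_eq]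
  have h2 := congrFun (congrArg (fun v => R *ᵥ v) h) a
  rw [mulVec_mulVec, mulVec_single_one, mulVec_single_one] at h2
  exact h2

theorem perm_mul_apply (R : Matrix (Fin n) (Fin n) F) (w : Equiv.Perm (Fin n)) (a b : Fin n) :
    ((permGL w : GL (Fin n) F).1 * R) a b = R (w.symm a) b := by
  have h := congrFun (permGL_mulVec (F := F) w (R *ᵥ Pi.single b 1)) a
  rw [mulVec_mulVec, mulVec_single_one, mulVec_single_one] at h
  exact h

variable (F n) in
/-- The representatives of the big cell. -/
def Good (x : SL) : Prop :=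
  ∃ b₁ b₂ : GL (Fin n) F, b₁ ∈ upperGL F n ∧ b₂ ∈ upperGL F n ∧
    Matrix.SpecialLinearGroup.toGL x = b₁ * permGL Fin.revPerm * b₂

theorem upperGL_iff (g : SL) : Matrix.SpecialLinearGroup.toGL g ∈ upperGL F n ↔ g ∈ borel F n :=
  ⟨fun h i j hij => h hij, fun h i j hij => h i j hij⟩

/-- Off the big cell there is an element of `U` on which the two linear characters differ. -/
theorem dichotomy (x : SL) :
    (∃ u : upperUni F n, x⁻¹ * (u : SL) * x ∈ borel F n ∧ psi F n u ≠ 1) ∨ Good F n x := by
  classical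
  obtain ⟨b₁, b₂, w, hb₁, hb₂, hx⟩ := bruhat (Matrix.SpecialLinearGroup.toGL x)
  have hb₁' : b₁ ∈ upperGL F n := fun i j h => hb₁ i j h
  have hb₂' : b₂ ∈ upperGL F n := fun i j h => hb₂ i j h
  have hx' : Matrix.SpecialLinearGroup.toGL x = b₁ * permGL w * b₂⁻¹ := eq_mul_inv_of_mul_eq hx
  by_cases hw : ∃ a b : Fin n, (b : ℕ) = a + 1 ∧ w.symm a < w.symm b
  swap
  · right
    refine ⟨b₁, b₂⁻¹, hb₁', inv_mem hb₂', ?_⟩
    rw [hx']
    push Not at hw
    have hanti : StrictAnti w.symm := by
      rcases n with _ | m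
      · exact fun i => i.elim0
      · exact Fin.strictAnti_iff_succ_lt.2 fun i =>
          lt_of_le_of_ne (hw i.castSucc i.succ (by simp)) fun e => (Fin.castSucc_lt_succ).ne (w.symm.injective e).symm
    have hmono : StrictMono fun i => Fin.rev (w.symm i) := fun i j h => Fin.rev_lt_rev.2 (hanti h)
    have hid : (fun i => Fin.rev (w.symm i)) = id := hmono.range_inj strictMono_id |>.1 (by
      rw [Set.range_id, Set.range_eq_univ]
      exact Fin.rev_surjective.comp w.symm.surjective)
    have : w = Fin.revPerm := by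
      ext i
      have := congrFun hid (w i)
      simp only [Equiv.symm_apply_apply, id] at this
      rw [← this]; rfl
    rw [this]
  left
  obtain ⟨a, b, hab, hlt⟩ := hw
  have hne : a ≠ b := fun e => by rw [e] at hab; omega
  set c : F := ((b₁.1 a a) * ((b₁⁻¹ : GL (Fin n) F).1 b b))⁻¹ with hc
  set T : GL (Fin n) F := Matrix.SpecialLinearGroup.toGL (Matrix.SpecialLinearGroup.transvection hne c) with hT
  have hne' : w.symm a ≠ w.symm b := hlt.ne
  set T' : GL (Fin n) F := Matrix.SpecialLinearGroup.toGL (Matrix.SpecialLinearGroup.transvection hne' c) with hT'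
  have hPT : T * permGL w = permGL w * T' := by
    refine Units.ext (Matrix.ext fun i j => ?_)
    rw [Units.val_mul, Units.val_mul, mul_perm_apply, perm_mul_apply]
    show (Matrix.SpecialLinearGroup.transvection hne c).1 i (w j) =
      (Matrix.SpecialLinearGroup.transvection hne' c).1 (w.symm i) j
    rw [Matrix.SpecialLinearGroup.transvection_coe, Matrix.SpecialLinearGroup.transvection_coe, Matrix.add_apply,
      Matrix.add_apply, Matrix.one_apply, Matrix.one_apply, Matrix.single_apply, Matrix.single_apply]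
    simp only [Equiv.symm_apply_eq, Equiv.eq_symm_apply]
    congr 1
    simp
  have hab' : a < b := by rw [Fin.lt_def]; omega
  have hTu : T ∈ upperGL F n := (upperGL_iff _).2 (transvection_mem hab' c).1
  have hT'u : T' ∈ upperGL F n := (upperGL_iff _).2 (transvection_mem hlt c).1
  set uG := b₁ * T * b₁⁻¹ with huG
  have huGu : uG ∈ upperGL F n := mul_mem (mul_mem hb₁' hTu) (inv_mem hb₁')
  have hdiag : ∀ i, uG.1 i i = 1 := fun i => by
    rw [huG, diag_mul (mul_mem hb₁' hTu) (inv_mem hb₁'), diag_mul hb₁' hTu,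
      show T.1 i i = 1 from (transvection_mem hab' c).2 i, mul_one, ← diag_mul hb₁' (inv_mem hb₁'), mul_inv_cancel]
    simp
  let uS : SL := ⟨uG.1, by
    rw [Matrix.det_of_isUpperTriangular huGu]
    exact Finset.prod_eq_one fun i _ => hdiag i⟩
  have hu : uS ∈ upperUni F n := ⟨fun i j h => huGu h, hdiag⟩
  refine ⟨⟨uS, hu⟩, ?_, psi_one_ne ?_⟩
  · rw [← upperGL_iff, map_mul, map_mul, map_inv, hx',
      show Matrix.SpecialLinearGroup.toGL ((⟨uS, hu⟩ : upperUni F n) : SL) = uG from Units.ext rfl, huG]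
    have e : (b₁ * permGL w * b₂⁻¹)⁻¹ * (b₁ * T * b₁⁻¹) * (b₁ * permGL w * b₂⁻¹) =
        b₂ * ((permGL w)⁻¹ * (T * permGL w)) * b₂⁻¹ := by group
    rw [e, hPT, inv_mul_cancel_left]
    exact mul_mem (mul_mem hb₂' hT'u) (inv_mem hb₂')
  · -- the only super-diagonal entry changed
    have hent : ∀ i j : Fin n, (j : ℕ) = i + 1 → uG.1 i j = if i = a then 1 else 0 := by
      intro i j hij
      have hT0 : T.1 = 1 + Matrix.single a b c := Matrix.SpecialLinearGroup.transvection_coe (hij := hne) (b := c)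
      rw [huG, Units.val_mul, Units.val_mul, hT0, Matrix.mul_add, Matrix.mul_one, Matrix.add_mul, Matrix.add_apply,
        ← Units.val_mul, mul_inv_cancel, Units.val_one, Matrix.one_apply_ne (fun e => by rw [e] at hij; omega), zero_add,
        Matrix.mul_apply, Finset.sum_eq_single b (fun k _ hk => by rw [Matrix.mul_single_apply_of_ne (hbj := hk), zero_mul])
          (by simp), Matrix.mul_single_apply_same]
      split_ifs with hia
      · subst hia
        have hjb : j = b := Fin.ext (by omega)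
        subst hjb
        rw [mul_comm (b₁.1 i i) c, mul_assoc, hc,
          inv_mul_cancel₀ (mul_ne_zero (diag_ne hb₁' i) (diag_ne (inv_mem hb₁') j))]
      · rcases lt_or_gt_of_ne hia with h | h
        · rw [show ((b₁⁻¹ : GL (Fin n) F).1 b j) = 0 from
            inv_mem hb₁' (show j < b by rw [Fin.lt_def]; have : (i : ℕ) < a := h; omega), mul_zero]
        · rw [hb₁ i a h, zero_mul, zero_mul]
    show (∑ i : Fin n, ∑ j : Fin n, if (j : ℕ) = i + 1 then uG.1 i j else 0) = 1
    rw [Finset.sum_eq_single a, Finset.sum_eq_single b]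
    · rw [if_pos hab, hent a b hab, if_pos rfl]
    · intro j _ hj
      rw [if_neg fun h => hj (Fin.ext (by omega))]
    · simp
    · intro i _ hi
      refine Finset.sum_eq_zero fun j _ => ?_
      split_ifs with h
      · rw [hent i j h, if_neg hi]
      · rfl
    · simp

/-- The stabilizer in `U` of a point of the big cell is trivial. -/
theorem good_inter {x : SL} (hx : Good F n x) {u : upperUni F n} (hu : x⁻¹ * (u : SL) * x ∈ borel F n) : u = 1 := by
  obtain ⟨b₁, b₂, hb₁, hb₂, hx⟩ := hx
  rw [← upperGL_iff, map_mul, map_mul, map_inv, hx] at hu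
  set uG := Matrix.SpecialLinearGroup.toGL (u : SL) with huG
  have huGu : uG ∈ upperGL F n := (upperGL_iff _).2 u.2.1
  set L := b₁⁻¹ * uG * b₁ with hL
  have hLu : L ∈ upperGL F n := mul_mem (mul_mem (inv_mem hb₁) huGu) hb₁
  set R := (permGL Fin.revPerm : GL (Fin n) F)⁻¹ * L * permGL Fin.revPerm with hR
  have hRu : R ∈ upperGL F n := by
    have h2 := mul_mem (mul_mem hb₂ hu) (inv_mem hb₂)
    rwa [show b₂ * ((b₁ * permGL Fin.revPerm * b₂)⁻¹ * uG * (b₁ * permGL Fin.revPerm * b₂)) * b₂⁻¹ = R by
      rw [hR, hL]; group] at h2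
  have hkey : L * permGL Fin.revPerm = permGL Fin.revPerm * R := by rw [hR]; group
  have hent : ∀ a b, L.1 a (Fin.revPerm b) = R.1 (Fin.revPerm.symm a) b := fun a b => by
    have := congrArg (fun z : GL (Fin n) F => z.1 a b) hkey
    simp only [Units.val_mul, mul_perm_apply, perm_mul_apply] at this
    exact this
  have hL1 : L = 1 := by
    refine Units.ext (Matrix.ext fun a c => ?_)
    rcases lt_trichotomy a c with h | h | h
    · rw [Units.val_one, Matrix.one_apply_ne h.ne, ← Fin.rev_rev c]
      show L.1 a (Fin.revPerm (Fin.rev c)) = 0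
      rw [hent]
      exact hRu (Fin.rev_lt_rev.2 h)
    · subst h
      rw [Units.val_one, Matrix.one_apply_eq, hL, diag_mul (mul_mem (inv_mem hb₁) huGu) hb₁,
        diag_mul (inv_mem hb₁) huGu, show uG.1 a a = 1 from u.2.2 a, mul_one, ← diag_mul (inv_mem hb₁) hb₁,
        inv_mul_cancel]
      simp
    · rw [Units.val_one, Matrix.one_apply_ne h.ne']
      exact hLu h
  have huG1 : uG = 1 := by
    have := congrArg (fun z => b₁ * z * b₁⁻¹) hL1
    simp only [hL, mul_one, mul_inv_cancel] at this
    rw [← this]; group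
  exact Subtype.ext (Subtype.ext (congrArg Units.val huG1))

theorem exists_unipotent_part {b : GL (Fin n) F} (hb : b ∈ upperGL F n) :
    ∃ d : GL (Fin n) F, (∀ i j, i ≠ j → d.1 i j = 0) ∧ d ∈ upperGL F n ∧
      ∀ i, ((b * d⁻¹ : GL (Fin n) F) : Matrix (Fin n) (Fin n) F) i i = 1 := by
  classical
  let d : GL (Fin n) F := Matrix.GeneralLinearGroup.mkOfDetNeZero (Matrix.diagonal fun i => b.1 i i)
    (by rw [Matrix.det_diagonal]; exact Finset.prod_ne_zero_iff.2 fun i _ => diag_ne hb i)
  have hd : d ∈ upperGL F n := fun i j h => Matrix.diagonal_apply_ne _ (fun e => by rw [e] at h; exact lt_irrefl _ h)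
  refine ⟨d, fun i j h => Matrix.diagonal_apply_ne _ h, hd, fun i => ?_⟩
  have h1 := diag_mul (mul_mem hb (inv_mem hd)) hd i
  rw [inv_mul_cancel_right, show d.1 i i = b.1 i i from Matrix.diagonal_apply_eq _ _] at h1
  exact (mul_eq_right₀ (diag_ne hb i)).1 h1.symm

/-- The big cell is one double coset. -/
theorem good_eq {x x₀ : SL} (hx : Good F n x) (hx₀ : Good F n x₀) :
    ∃ u ∈ upperUni F n, ∃ b ∈ borel F n, x = u * x₀ * b := by
  have key : ∀ {y : SL}, Good F n y → ∃ (v : SL) (c : GL (Fin n) F), v ∈ upperUni F n ∧ c ∈ upperGL F n ∧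
      Matrix.SpecialLinearGroup.toGL y = Matrix.SpecialLinearGroup.toGL v * permGL Fin.revPerm * c := by
    intro y hy
    obtain ⟨b₁, b₂, hb₁, hb₂, hy⟩ := hy
    obtain ⟨d, hd0, hd, hv⟩ := exists_unipotent_part hb₁
    have hvu : b₁ * d⁻¹ ∈ upperGL F n := mul_mem hb₁ (inv_mem hd)
    let v : SL := ⟨(b₁ * d⁻¹ : GL (Fin n) F).1, by
      rw [Matrix.det_of_isUpperTriangular hvu]
      exact Finset.prod_eq_one fun i _ => hv i⟩
    set P := (permGL Fin.revPerm : GL (Fin n) F)
    have hd' : P⁻¹ * d * P ∈ upperGL F n := by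
      intro i j h
      have e : d * P = P * (P⁻¹ * d * P) := by group
      generalize P⁻¹ * d * P = E at e ⊢
      have h2 := congrArg (fun z : GL (Fin n) F => z.1 (Fin.revPerm i) j) e
      simp only [Units.val_mul, P, mul_perm_apply, perm_mul_apply, Equiv.symm_apply_apply] at h2
      rw [← h2]
      exact hd0 _ _ fun e => by rw [Fin.revPerm.injective e] at h; exact lt_irrefl _ h
    refine ⟨v, P⁻¹ * d * P * b₂, ⟨fun i j h => hvu h, hv⟩, mul_mem hd' hb₂, ?_⟩
    rw [show Matrix.SpecialLinearGroup.toGL v = b₁ * d⁻¹ from Units.ext rfl, hy]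
    group
  obtain ⟨v, c, hv, hc, hx⟩ := key hx
  obtain ⟨v₀, c₀, hv₀, hc₀, hx₀⟩ := key hx₀
  refine ⟨v * v₀⁻¹, mul_mem hv (inv_mem hv₀), (v * v₀⁻¹ * x₀)⁻¹ * x, ?_, by group⟩
  rw [← upperGL_iff, map_mul, map_inv, map_mul, map_mul, map_inv, hx, hx₀]
  have e : ∀ (V V₀ P C C₀ : GL (Fin n) F), (V * V₀⁻¹ * (V₀ * P * C₀))⁻¹ * (V * P * C) = C₀⁻¹ * C :=
    fun V V₀ P C C₀ => by group
  rw [e]
  exact mul_mem (inv_mem hc₀) hc

end CfsgLib.SLBlocks
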