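import Mathlib
import Cfsg.Agent.SLn.Unipotent

/-!
# The Borel subgroup of `SL_n`: diagonal map and `p`-regular elements
-/

set_option autoImplicit false

namespace CfsgLib.SLBlocks

open Matrix CfsgLib.SLn.Unip

variable (F : Type*) [Field F] [Finite F] (n : ℕ)

local notation "SL" => Matrix.SpecialLinearGroup (Fin n) F

/-- The upper triangular subgroup. -/
def borel : Subgroup SL where
  carrier := {g | IsUpper g}
  one_mem' := fun i j h => by simp [Matrix.one_apply_ne h.ne']
  mul_mem' := fun ha hb => (mul_entry ha hb).1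
  inv_mem' := fun {a} ha => by
    rw [inv_eq_pow]
    induction (orderOf a - 1) with
    | zero => exact fun i j h => by simp [Matrix.one_apply_ne h.ne']
    | succ m ih => rw [pow_succ]; exact (mul_entry ih ha).1

/-- Tuples of units with product one. -/
def torus : Subgroup (Fin n → Fˣ) where
  carrier := {t | ∏ i, t i = 1}
  one_mem' := by simp
  mul_mem' := fun {a b} ha hb => by
    show ∏ i, a i * b i = 1
    rw [Finset.prod_mul_distrib, (ha : ∏ i, a i = 1), (hb : ∏ i, b i = 1), one_mul]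
  inv_mem' := fun {a} ha => by
    show ∏ i, (a i)⁻¹ = 1
    rw [Finset.prod_inv_distrib, (ha : ∏ i, a i = 1), inv_one]

variable {F n}

theorem mem_borel {g : SL} : g ∈ borel F n ↔ IsUpper g := Iff.rfl

theorem upperUni_le_borel : upperUni F n ≤ borel F n := fun _ h => h.1

theorem diag_prod {g : SL} (hg : IsUpper g) : ∏ i, g.1 i i = 1 := by
  rw [← Matrix.det_of_isUpperTriangular (fun i j h => hg i j h)]
  exact g.2

theorem diag_ne_zero {g : SL} (hg : IsUpper g) (i : Fin n) : g.1 i i ≠ 0 := fun h => by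
  have := diag_prod hg
  rw [Finset.prod_eq_zero (f := fun i => g.1 i i) (Finset.mem_univ i) h] at this
  exact zero_ne_one this

variable (F n) in
/-- The diagonal of a triangular matrix. -/
def dg : borel F n →* torus F n where
  toFun g := ⟨fun i => Units.mk0 (g.1.1 i i) (diag_ne_zero g.2 i), by
    show ∏ i, _ = (1 : Fˣ)
    refine Units.ext ?_
    rw [Units.coe_prod]
    exact diag_prod g.2⟩
  map_one' := Subtype.ext (funext fun i => Units.ext (by simp))
  map_mul' a b := Subtype.ext (funext fun i => Units.ext ((mul_entry a.2 b.2).2 i))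

theorem dg_val (g : borel F n) (i : Fin n) : (((dg F n g).1 i : Fˣ) : F) = g.1.1 i i := rfl

theorem dg_eq_one_iff (g : borel F n) : dg F n g = 1 ↔ (g : SL) ∈ upperUni F n := by
  rw [Subtype.ext_iff, funext_iff, mem_upperUni]
  refine ⟨fun h => ⟨g.2, fun i => ?_⟩, fun h i => Units.ext (h.2 i)⟩
  have := congrArg Units.val (h i)
  simpa [dg_val] using this

/-- The diagonal matrix of a torus element. -/
def diagSL (t : torus F n) : SL :=
  ⟨Matrix.diagonal fun i => ((t.1 i : Fˣ) : F), by
    rw [Matrix.det_diagonal, ← Units.coe_prod, (t.2 : ∏ i, t.1 i = 1), Units.val_one]⟩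

theorem diagSL_mem (t : torus F n) : diagSL t ∈ borel F n := fun i j h => Matrix.diagonal_apply_ne _ h.ne'

theorem dg_diagSL (t : torus F n) : dg F n ⟨diagSL t, diagSL_mem t⟩ = t :=
  Subtype.ext (funext fun i => Units.ext (by simp [dg_val, diagSL]))

theorem dg_surjective : Function.Surjective (dg F n) := fun t => ⟨_, dg_diagSL t⟩

theorem diagSL_pow (t : torus F n) (k : ℕ) : diagSL (t ^ k) = diagSL t ^ k := by
  refine Subtype.ext ?_
  rw [show (diagSL t ^ k).1 = (diagSL t).1 ^ k from rfl]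
  simp only [diagSL, Matrix.diagonal_pow]
  congr 1

variable {p : ℕ} [Fact p.Prime] [CharP F p]

/-- A `p`-element of the Borel subgroup is unitriangular. -/
theorem mem_upperUni_of_pow {g : SL} (hg : g ∈ borel F n) (k : ℕ) (hk : g ^ (p ^ k) = 1) :
    g ∈ upperUni F n :=
  ⟨hg, eq_one_of_diag_pow p hg k hk⟩

theorem torus_pow [Fintype F] (t : torus F n) : t ^ (Fintype.card F - 1) = 1 := by
  refine Subtype.ext (funext fun i => Units.ext ?_)
  simp only [SubmonoidClass.coe_pow, Pi.pow_apply, Units.val_pow_eq_pow_val, OneMemClass.coe_one, Pi.one_apply,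
    Units.val_one]
  exact FiniteField.pow_card_sub_one_eq_one _ (Units.ne_zero _)

/-- A `p`-regular element of the Borel subgroup has order dividing `q - 1`. -/
theorem pow_eq_one_of_regular [Fintype F] {b : borel F n} (hb : ¬ p ∣ orderOf (b : SL)) :
    (b : SL) ^ (Fintype.card F - 1) = 1 := by
  have hu : (b : SL) ^ (Fintype.card F - 1) ∈ upperUni F n := by
    rw [← SubgroupClass.coe_pow, ← dg_eq_one_iff, map_pow]
    exact torus_pow _
  obtain ⟨k, hk⟩ := isPGroup_upperUni (K := F) (n := n) p ⟨_, hu⟩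
  have hk' : ((b : SL) ^ (Fintype.card F - 1)) ^ p ^ k = 1 := congrArg Subtype.val hk
  obtain ⟨j, -, hj⟩ := (Nat.dvd_prime_pow Fact.out).1 (orderOf_dvd_of_pow_eq_one hk')
  rw [← orderOf_eq_one_iff, hj]
  rcases Nat.eq_zero_or_pos j with rfl | hpos
  · exact pow_zero p
  · exact absurd ((hj ▸ dvd_pow_self p hpos.ne' : p ∣ _).trans (orderOf_pow_dvd _)) hb

theorem upper_mul {A B : Matrix (Fin n) (Fin n) F} (hA : ∀ i j, j < i → A i j = 0) (hB : ∀ i j, j < i → B i j = 0) :
    (∀ i j, j < i → (A * B) i j = 0) ∧ ∀ i, (A * B) i i = A i i * B i i := by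
  have hA' : A.BlockTriangular id := fun i j h => hA i j h
  have hB' : B.BlockTriangular id := fun i j h => hB i j h
  refine ⟨fun i j h => hA'.mul hB' h, fun i => ?_⟩
  rw [Matrix.mul_apply, Finset.sum_eq_single i (fun k _ hk => ?_) (by simp)]
  rcases lt_or_gt_of_ne hk with h | h
  · rw [hA i k h, zero_mul]
  · rw [hB k i h, mul_zero]

/-- A `p`-regular element is conjugate under the unitriangular group to its diagonal. -/
theorem exists_conj_diag [Fintype F] {b : borel F n} (hb : ¬ p ∣ orderOf (b : SL)) :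
    ∃ u ∈ upperUni F n, (b : SL) = u * diagSL (dg F n b) * u⁻¹ := by
  classical
  set e := Fintype.card F - 1 with he
  set t := dg F n b with ht
  have hbe : (b : SL) ^ e = 1 := pow_eq_one_of_regular hb
  have hte : diagSL (t⁻¹) ^ e = 1 := by
    rw [← diagSL_pow, torus_pow]
    exact Subtype.ext (by simp [diagSL])
  set T' := (diagSL (t⁻¹)).1 with hT'
  set Bm := (b : SL).1 with hBm
  set S : Matrix (Fin n) (Fin n) F := ∑ k ∈ Finset.range e, Bm ^ k * T' ^ k with hS
  have hkey : Bm * S * T' = S := by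
    rw [hS, Finset.mul_sum, Finset.sum_mul]
    have hf : ∀ k, Bm * (Bm ^ k * T' ^ k) * T' = Bm ^ (k + 1) * T' ^ (k + 1) := fun k => by
      rw [pow_succ' Bm, pow_succ T']; simp only [mul_assoc]
    simp only [hf]
    rw [← sub_eq_zero, ← Finset.sum_sub_distrib, Finset.sum_range_sub (fun k => Bm ^ k * T' ^ k),
      show Bm ^ e = 1 from congrArg Subtype.val hbe, show T' ^ e = 1 from congrArg Subtype.val hte]
    simp
  have hterm : ∀ k : ℕ, (∀ i j, j < i → (Bm ^ k * T' ^ k) i j = 0) ∧ ∀ i, (Bm ^ k * T' ^ k) i i = 1 := by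
    intro k
    have hmem : (b : SL) ^ k * diagSL (t⁻¹) ^ k ∈ upperUni F n := by
      have h1 := dg_eq_one_iff (b ^ k * (⟨diagSL (t⁻¹), diagSL_mem _⟩ : borel F n) ^ k)
      rw [map_mul, map_pow, map_pow, dg_diagSL, ← ht, ← mul_pow, mul_inv_cancel, one_pow] at h1
      exact h1.1 rfl
    exact ⟨fun i j h => hmem.1 i j h, fun i => hmem.2 i⟩
  set Um : Matrix (Fin n) (Fin n) F := -S with hUm
  have hUu : ∀ i j, j < i → Um i j = 0 := fun i j h => by
    rw [hUm, Matrix.neg_apply, hS, Matrix.sum_apply, Finset.sum_eq_zero (fun k _ => (hterm k).1 i j h), neg_zero]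
  have hU1 : ∀ i, Um i i = 1 := fun i => by
    rw [hUm, Matrix.neg_apply, hS, Matrix.sum_apply, Finset.sum_congr rfl (fun k _ => (hterm k).2 i),
      Finset.sum_const, Finset.card_range, nsmul_eq_mul, mul_one, he, Nat.cast_sub Fintype.card_pos,
      FiniteField.cast_card_eq_zero, Nat.cast_one, zero_sub, neg_neg]
  have hdet : Um.det = 1 := by
    rw [Matrix.det_of_isUpperTriangular (fun i j h => hUu i j h)]
    exact Finset.prod_eq_one fun i _ => hU1 i
  refine ⟨⟨Um, hdet⟩, ⟨fun i j h => hUu i j h, hU1⟩, ?_⟩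
  have hTT : diagSL (t⁻¹) * diagSL t = 1 := Subtype.ext (by
    show Matrix.diagonal _ * Matrix.diagonal _ = 1
    rw [Matrix.diagonal_mul_diagonal, ← Matrix.diagonal_one]
    congr 1; funext i; simp)
  have h1 : (b : SL) * ⟨Um, hdet⟩ * diagSL (t⁻¹) = ⟨Um, hdet⟩ := Subtype.ext (by
    show Bm * Um * T' = Um
    rw [hUm, Matrix.mul_neg, Matrix.neg_mul, hkey])
  have key : ∀ (x y u : SL), x * u * diagSL (t⁻¹) = u → diagSL (t⁻¹) * y = 1 → x = u * y * u⁻¹ := by
    intro x y u e1 e2
    rw [eq_mul_inv_iff_mul_eq]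
    calc x * u = x * u * (diagSL (t⁻¹) * y) := by rw [e2, mul_one]
      _ = u * y := by rw [← mul_assoc, e1]
  exact key _ _ _ h1 hTT

/-- The centralizer in the unitriangular group of a diagonal element. -/
theorem card_centralizing [Fintype F] (t : torus F n) :
    Nat.card {u : upperUni F n // (u : SL) * diagSL t = diagSL t * u} =
      Fintype.card F ^ Nat.card {ij : Fin n × Fin n // ij.1 < ij.2 ∧ t.1 ij.1 = t.1 ij.2} := by
  classical
  set P := {ij : Fin n × Fin n // ij.1 < ij.2 ∧ t.1 ij.1 = t.1 ij.2}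
  rw [← Nat.card_eq_fintype_card (α := F), ← Nat.card_fun]
  let mk : (P → F) → Matrix (Fin n) (Fin n) F := fun f => Matrix.of fun i j =>
    if i = j then 1 else if h : i < j ∧ t.1 i = t.1 j then f ⟨(i, j), h⟩ else 0
  have hup : ∀ f i j, j < i → mk f i j = 0 := fun f i j h => by
    simp only [mk, Matrix.of_apply]
    rw [if_neg h.ne', dif_neg fun h' => lt_asymm h h'.1]
  have hdiag : ∀ f i, mk f i i = 1 := fun f i => if_pos rfl
  have hdet : ∀ f, (mk f).det = 1 := fun f => by
    rw [Matrix.det_of_isUpperTriangular (fun i j h => hup f i j h)]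
    exact Finset.prod_eq_one fun i _ => hdiag f i
  refine Nat.card_congr
    { toFun := fun u ij => u.1.1.1 ij.1.1 ij.1.2
      invFun := fun f => ⟨⟨⟨mk f, hdet f⟩, fun i j h => hup f i j h, hdiag f⟩, Subtype.ext (Matrix.ext fun i j => ?_)⟩
      left_inv := fun u => Subtype.ext (Subtype.ext (Subtype.ext (Matrix.ext fun i j => ?_)))
      right_inv := fun f => funext fun ij => ?_ }
  · show ((mk f * Matrix.diagonal fun k => ((t.1 k : Fˣ) : F)) : Matrix (Fin n) (Fin n) F) i j =
      ((Matrix.diagonal fun k => ((t.1 k : Fˣ) : F)) * mk f : Matrix (Fin n) (Fin n) F) i j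
    rw [Matrix.mul_diagonal, Matrix.diagonal_mul]
    simp only [mk, Matrix.of_apply]
    split_ifs with h1 h2
    · rw [h1]; ring
    · rw [h2.2]; ring
    · ring
  · show mk (fun ij : P => u.1.1.1 ij.1.1 ij.1.2) i j = _
    simp only [mk, Matrix.of_apply]
    split_ifs with h1 h2
    · rw [h1, u.1.2.2 j]
    · rfl
    · rcases lt_trichotomy i j with h | h | h
      · have he : (u.1.1.1 * Matrix.diagonal fun k => ((t.1 k : Fˣ) : F)) i j =
            ((Matrix.diagonal fun k => ((t.1 k : Fˣ) : F)) * u.1.1.1) i j :=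
          congrArg (fun z : SL => z.1 i j) u.2
        rw [Matrix.mul_diagonal, Matrix.diagonal_mul, mul_comm, mul_eq_mul_right_iff] at he
        exact (he.resolve_left fun e => h2 ⟨h, (Units.ext e).symm⟩).symm
      · exact absurd h h1
      · exact (u.1.2.1 i j h).symm
  · show mk f ij.1.1 ij.1.2 = f ij
    simp only [mk, Matrix.of_apply]
    rw [if_neg ij.2.1.ne, dif_pos ij.2]

theorem card_centralizing_perm [Fintype F] (t t' : torus F n) (σ : Equiv.Perm (Fin n)) (h : ∀ i, t'.1 i = t.1 (σ i)) :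
    Nat.card {u : upperUni F n // (u : SL) * diagSL t' = diagSL t' * u} =
      Nat.card {u : upperUni F n // (u : SL) * diagSL t = diagSL t * u} := by
  classical
  rw [card_centralizing, card_centralizing]
  congr 1
  have key : ∀ s : torus F n, 2 * Nat.card {ij : Fin n × Fin n // ij.1 < ij.2 ∧ s.1 ij.1 = s.1 ij.2} =
      Nat.card {ij : Fin n × Fin n // ij.1 ≠ ij.2 ∧ s.1 ij.1 = s.1 ij.2} := by
    intro s
    let A := {ij : Fin n × Fin n // ij.1 < ij.2 ∧ s.1 ij.1 = s.1 ij.2}
    rw [two_mul, ← Nat.card_sum]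
    refine Nat.card_congr
      { toFun := fun x => Sum.elim (fun a : A => ⟨a.1, a.2.1.ne, a.2.2⟩)
          (fun a : A => ⟨(a.1.2, a.1.1), a.2.1.ne', a.2.2.symm⟩) x
        invFun := fun a => if h : a.1.1 < a.1.2 then Sum.inl ⟨a.1, h, a.2.2⟩
          else Sum.inr ⟨(a.1.2, a.1.1), lt_of_le_of_ne (not_lt.1 h) (Ne.symm a.2.1), a.2.2.symm⟩
        left_inv := ?_
        right_inv := ?_ }
    · rintro (a | a)
      · simp [a.2.1]
      · simp [not_lt.2 a.2.1.le]
    · intro a
      by_cases h : a.1.1 < a.1.2 <;> simp [h]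
  have h2 : Nat.card {ij : Fin n × Fin n // ij.1 ≠ ij.2 ∧ t'.1 ij.1 = t'.1 ij.2} =
      Nat.card {ij : Fin n × Fin n // ij.1 ≠ ij.2 ∧ t.1 ij.1 = t.1 ij.2} :=
    Nat.card_congr ((σ.prodCongr σ).subtypeEquiv fun ij => by simp [h])
  have := key t
  have := key t'
  omega

/-- Permuted diagonal elements are conjugate in `SL_n`. -/
theorem isConj_diag_perm (t t' : torus F n) (σ : Equiv.Perm (Fin n)) (h : ∀ i, t'.1 i = t.1 (σ i)) :
    IsConj (diagSL t) (diagSL t') := by
  classical
  rcases n with _ | n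
  · exact (Subtype.ext (Matrix.ext fun i => i.elim0) : diagSL t = diagSL t') ▸ IsConj.refl _
  set P : Matrix (Fin (n + 1)) (Fin (n + 1)) F := σ.permMatrix F
  set ε : F := ((Equiv.Perm.sign σ : ℤ) : F) with hε
  have hεε : ε * ε = 1 := by
    rw [hε, ← Int.cast_mul, ← Units.val_mul, Int.units_mul_self, Units.val_one, Int.cast_one]
  set D : Matrix (Fin (n + 1)) (Fin (n + 1)) F := Matrix.diagonal (fun i => if i = 0 then ε else 1)
  have hdet : (P * D).det = 1 := by
    rw [Matrix.det_mul, Matrix.det_permutation, Matrix.det_diagonal, Finset.prod_ite_eq' Finset.univ 0 (fun _ => ε),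
      if_pos (Finset.mem_univ _)]
    exact hεε
  let gS : Matrix.SpecialLinearGroup (Fin (n + 1)) F := ⟨P * D, hdet⟩
  refine isConj_iff.2 ⟨gS, ?_⟩
  rw [mul_inv_eq_iff_eq_mul]
  refine Subtype.ext (Matrix.ext fun i j => ?_)
  show ((P * D) * Matrix.diagonal (fun k => ((t.1 k : Fˣ) : F))) i j =
    (Matrix.diagonal (fun k => ((t'.1 k : Fˣ) : F)) * (P * D)) i j
  rw [Matrix.mul_diagonal, Matrix.diagonal_mul, Matrix.mul_diagonal, h]
  by_cases hj : σ i = j
  · subst hj; ring
  · have h0 : P i j = 0 := by simp [P, Equiv.Perm.permMatrix, PEquiv.toMatrix_apply, hj]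
    rw [h0]; ring

/-- Weighted sums over the Borel subgroup of a class function vanishing on singular elements. -/
theorem sum_borel [Fintype F] [Fintype (borel F n)] [Fintype (torus F n)] (χ : SL → ℂ)
    (hcl : ∀ g h : SL, χ (h * g * h⁻¹) = χ g) (hv : ∀ g : SL, p ∣ orderOf g → χ g = 0) (μ : torus F n → ℂ) :
    ∑ b : borel F n, χ b * μ (dg F n b) =
      ∑ t : torus F n, (Nat.card (upperUni F n) : ℂ) /
        (Nat.card {u : upperUni F n // (u : SL) * diagSL t = diagSL t * u}) * (χ (diagSL t) * μ t) := by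
  classical
  rw [← Finset.sum_fiberwise (Finset.univ : Finset (borel F n)) (dg F n)]
  refine Finset.sum_congr rfl fun t _ => ?_
  set R := Finset.univ.filter fun b : borel F n => dg F n b = t ∧ ¬ p ∣ orderOf (b : SL) with hR
  have hreg : ∀ b ∈ R, χ (b : SL) = χ (diagSL t) := by
    intro b hb
    obtain ⟨hbt, hbp⟩ := (Finset.mem_filter.1 hb).2
    obtain ⟨u, -, hu⟩ := exists_conj_diag (p := p) hbp
    rw [hu, hbt, hcl]
  have hcard : (R.card : ℂ) * (Nat.card {u : upperUni F n // (u : SL) * diagSL t = diagSL t * u}) =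
      (Nat.card (upperUni F n) : ℂ) := by
    haveI := Fintype.ofFinite (upperUni F n)
    have hto : ∀ u : upperUni F n,
        (⟨(u : SL) * diagSL t * (u : SL)⁻¹, mul_mem (mul_mem (upperUni_le_borel u.2) (diagSL_mem t))
          (inv_mem (upperUni_le_borel u.2))⟩ : borel F n) ∈ R := by
      intro u
      refine Finset.mem_filter.2 ⟨Finset.mem_univ _, ?_, ?_⟩
      · have hu1 : dg F n ⟨(u : SL), upperUni_le_borel u.2⟩ = 1 := (dg_eq_one_iff _).2 u.2
        show dg F n (⟨(u : SL), upperUni_le_borel u.2⟩ * ⟨diagSL t, diagSL_mem t⟩ *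
          (⟨(u : SL), upperUni_le_borel u.2⟩ : borel F n)⁻¹) = t
        rw [map_mul, map_mul, map_inv, hu1, dg_diagSL, inv_one, mul_one, one_mul]
      · intro hp
        have h1 : orderOf ((u : SL) * diagSL t * (u : SL)⁻¹) ∣ Fintype.card F - 1 := by
          refine orderOf_dvd_of_pow_eq_one ?_
          rw [conj_pow, ← diagSL_pow, torus_pow, show diagSL (1 : torus F n) = 1 from Subtype.ext (by simp [diagSL]),
            mul_one, mul_inv_cancel]
        have h2 : ((Fintype.card F - 1 : ℕ) : F) = 0 := (CharP.cast_eq_zero_iff F p _).2 (hp.trans h1)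
        rw [Nat.cast_sub Fintype.card_pos, FiniteField.cast_card_eq_zero, Nat.cast_one, zero_sub, neg_eq_zero] at h2
        exact one_ne_zero h2
    rw [← Nat.cast_mul, Nat.cast_inj, Nat.card_eq_fintype_card (α := upperUni F n), ← Finset.card_univ,
      Finset.card_eq_sum_card_fiberwise (s := (Finset.univ : Finset (upperUni F n))) (t := R) (fun u _ => hto u),
      Finset.sum_const_nat]
    intro b hb
    obtain ⟨hbt, hbp⟩ := (Finset.mem_filter.1 hb).2
    obtain ⟨u₀, hu₀, hb'⟩ := exists_conj_diag (p := p) hbp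
    rw [hbt] at hb'
    rw [Nat.card_eq_fintype_card, Fintype.card_subtype]
    refine Finset.card_equiv (Equiv.mulLeft (⟨u₀, hu₀⟩ : upperUni F n)⁻¹) fun u => ?_
    simp only [Finset.mem_filter, Finset.mem_univ, true_and, Equiv.coe_mulLeft, Subtype.ext_iff, Subgroup.coe_mul,
      InvMemClass.coe_inv, hb']
    rw [mul_inv_eq_iff_eq_mul, mul_assoc (u₀⁻¹) (u : SL), inv_mul_eq_iff_eq_mul]
    simp only [mul_assoc]
  have hne : (Nat.card {u : upperUni F n // (u : SL) * diagSL t = diagSL t * u} : ℂ) ≠ 0 := by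
    haveI : Nonempty {u : upperUni F n // (u : SL) * diagSL t = diagSL t * u} := ⟨⟨1, by simp⟩⟩
    exact Nat.cast_ne_zero.2 Nat.card_pos.ne'
  rw [← hcard, mul_div_assoc, div_self hne, mul_one, ← Finset.sum_subset (s₁ := R)]
  · rw [Finset.sum_congr rfl (fun b hb => by rw [hreg b hb, (Finset.mem_filter.1 hb).2.1]), Finset.sum_const,
      nsmul_eq_mul]
  · intro b hb
    exact Finset.mem_filter.2 ⟨Finset.mem_univ _, (Finset.mem_filter.1 hb).2.1⟩
  · intro b hb hbR
    have hp : p ∣ orderOf (b : SL) := by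
      by_contra h
      exact hbR (Finset.mem_filter.2 ⟨Finset.mem_univ _, (Finset.mem_filter.1 hb).2, h⟩)
    rw [hv _ hp, zero_mul]

end CfsgLib.SLBlocks
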